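import Cfsg.Prelude.Def_Spor_Suz
import Cfsg.Agent.Lib.CGT.Pres
import Cfsg.Agent.Lib.SuzSp.TC1
/-! The order of the presented sporadic Suzuki group is at most 448345497600 -/
set_option autoImplicit false
set_option maxRecDepth 100000
namespace H40.Suz
open H54 Cfsg.Spor
def R : List (List ℕ) := [[0, 0],
  [0, 2, 0, 2, 0, 2, 0, 2, 0, 2],
  [0, 4, 0, 4],
  [0, 6, 0, 6],
  [0, 8, 0, 8],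
  [0, 10, 0, 10],
  [0, 12, 0, 12],
  [2, 2],
  [2, 4, 2, 4, 2, 4],
  [2, 6, 2, 6],
  [2, 8, 2, 8],
  [2, 10, 2, 10, 2, 10],
  [2, 12, 2, 12, 2, 12],
  [4, 4],
  [4, 6, 4, 6, 4, 6, 4, 6, 4, 6, 4, 6, 4, 6, 4, 6],
  [4, 8, 4, 8],
  [4, 10, 4, 10],
  [4, 12, 4, 12],
  [6, 6],
  [6, 8, 6, 8, 6, 8],
  [6, 10, 6, 10],
  [6, 12, 6, 12],
  [8, 8],
  [8, 10, 8, 10],
  [8, 12, 8, 12],
  [10, 10],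
  [10, 12, 10, 12, 10, 12, 10, 12],
  [12, 12],
  [0, 6, 4, 6, 4, 6, 4, 6, 4],
  [0, 12, 10, 12, 10],
  [0, 2, 4, 10, 0, 2, 4, 10, 0, 2, 4, 10, 0, 2, 4, 10, 0, 2, 4, 10],
  [2, 10, 12, 2, 10, 12, 2, 10, 12, 2, 10, 12, 2, 10, 12],
  [2, 4, 6, 4, 6, 2, 4, 6, 4, 6, 2, 4, 6, 4, 6, 2, 4, 6, 4, 6, 2, 4, 6, 4, 6, 8, 2, 4, 6, 4, 6, 2, 4, 6, 4, 6, 2, 4, 6, 4, 6, 2, 4, 6, 4, 6, 2, 4, 6, 4, 6, 8, 2, 4, 6, 4, 6, 2, 4, 6, 4, 6, 2, 4, 6, 4, 6, 2, 4, 6, 4, 6, 2, 4, 6, 4, 6, 8]]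
def R6 : List (List ℕ) := [[0, 0],
  [0, 2, 0, 2, 0, 2, 0, 2, 0, 2],
  [0, 4, 0, 4],
  [0, 6, 0, 6],
  [0, 8, 0, 8],
  [0, 10, 0, 10],
  [2, 2],
  [2, 4, 2, 4, 2, 4],
  [2, 6, 2, 6],
  [2, 8, 2, 8],
  [2, 10, 2, 10, 2, 10],
  [4, 4],
  [4, 6, 4, 6, 4, 6, 4, 6, 4, 6, 4, 6, 4, 6, 4, 6],
  [4, 8, 4, 8],
  [4, 10, 4, 10],
  [6, 6],
  [6, 8, 6, 8, 6, 8],
  [6, 10, 6, 10],
  [8, 8],
  [8, 10, 8, 10],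
  [10, 10],
  [0, 6, 4, 6, 4, 6, 4, 6, 4],
  [0, 2, 4, 10, 0, 2, 4, 10, 0, 2, 4, 10, 0, 2, 4, 10, 0, 2, 4, 10],
  [2, 4, 6, 4, 6, 2, 4, 6, 4, 6, 2, 4, 6, 4, 6, 2, 4, 6, 4, 6, 2, 4, 6, 4, 6, 8, 2, 4, 6, 4, 6, 2, 4, 6, 4, 6, 2, 4, 6, 4, 6, 2, 4, 6, 4, 6, 2, 4, 6, 4, 6, 8, 2, 4, 6, 4, 6, 2, 4, 6, 4, 6, 2, 4, 6, 4, 6, 2, 4, 6, 4, 6, 2, 4, 6, 4, 6, 8]]
def R5 : List (List ℕ) := [[0, 0],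
  [0, 2, 0, 2, 0, 2, 0, 2, 0, 2],
  [0, 4, 0, 4],
  [0, 6, 0, 6],
  [0, 8, 0, 8],
  [2, 2],
  [2, 4, 2, 4, 2, 4],
  [2, 6, 2, 6],
  [2, 8, 2, 8],
  [4, 4],
  [4, 6, 4, 6, 4, 6, 4, 6, 4, 6, 4, 6, 4, 6, 4, 6],
  [4, 8, 4, 8],
  [6, 6],
  [6, 8, 6, 8, 6, 8],
  [8, 8],
  [0, 6, 4, 6, 4, 6, 4, 6, 4],
  [2, 4, 6, 4, 6, 2, 4, 6, 4, 6, 2, 4, 6, 4, 6, 2, 4, 6, 4, 6, 2, 4, 6, 4, 6, 8, 2, 4, 6, 4, 6, 2, 4, 6, 4, 6, 2, 4, 6, 4, 6, 2, 4, 6, 4, 6, 2, 4, 6, 4, 6, 8, 2, 4, 6, 4, 6, 2, 4, 6, 4, 6, 2, 4, 6, 4, 6, 2, 4, 6, 4, 6, 2, 4, 6, 4, 6, 8]]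
def R4 : List (List ℕ) := [[0, 0],
  [0, 2, 0, 2, 0, 2, 0, 2, 0, 2],
  [0, 4, 0, 4],
  [0, 6, 0, 6],
  [2, 2],
  [2, 4, 2, 4, 2, 4],
  [2, 6, 2, 6],
  [4, 4],
  [4, 6, 4, 6, 4, 6, 4, 6, 4, 6, 4, 6, 4, 6, 4, 6],
  [6, 6],
  [0, 6, 4, 6, 4, 6, 4, 6, 4]]
def R2 : List (List ℕ) := [[0, 0],
  [0, 2, 0, 2, 0, 2, 0, 2, 0, 2],
  [2, 2]]
theorem bnd2 : Bnd R2 2 10 :=
  Bnd.tc (bnd_zero []) (n := 10) (fun g ω => T54.Suz2.enum g ω) (by decide) [0, 2] rfl (fun _ h => h)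
    []
    []
    (by decide +kernel)
theorem bnd4 : Bnd R4 4 2160 :=
  Bnd.tc bnd2 (n := 216) (fun g ω => T54.Suz4.enum g ω) (by decide) [0, 2, 4, 6] rfl (fun _ h => h)
    [[0],
  [2]]
    []
    (by decide +kernel)
theorem bnd5 : Bnd R5 5 604800 :=
  Bnd.tc bnd4 (n := 280) (fun g ω => T54.Suz5.enum g ω) (by decide) [0, 2, 4, 6, 8] rfl (fun _ h => h)
    [[0],
  [2],
  [4],
  [6]]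
    []
    (by decide +kernel)
theorem bnd6 : Bnd R6 6 251596800 :=
  Bnd.tc bnd5 (n := 416) (fun g ω => T54.Suz6.enum g ω) (by decide) [0, 2, 4, 6, 8, 10] rfl (fun _ h => h)
    [[0],
  [2],
  [4],
  [6],
  [8]]
    []
    (by decide +kernel)
theorem bnd : Bnd R 7 448345497600 :=
  Bnd.tc bnd6 (n := 1782) (fun g ω => T54.Suz7.enum g ω) (by decide) [0, 2, 4, 6, 8, 10, 12] rfl (fun _ h => h)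
    [[0],
  [2],
  [4],
  [6],
  [8],
  [10]]
    []
    (by decide +kernel)
def gens : List Suz.Gen := [.a, .b, .c, .d, .e, .f, .g]
theorem mem_gens (y : Suz.Gen) : y ∈ gens := by cases y <;> decide
/-- the generators -/
abbrev x : ℕ → Suz := cgen gens Suz.edges Suz.extra
theorem pres : Pres R 7 Suz x := pres_of_dv mem_gens (by decide)
  (L := [([0, 6, 4, 6, 4, 6, 4, 6, 4], [([], 99), ([0, 7, 5, 7, 5, 7, 5, 7], 33), ([0, 7, 5, 7, 5, 7, 5], 49), ([0, 7, 5, 7, 5, 7], 33), ([0, 7, 5, 7, 5], 49), ([0, 7, 5, 7], 33), ([0, 7, 5], 49), ([0, 7], 33), ([0], 49)]),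
  ([0, 12, 10, 12, 10], [([], 101), ([0, 13, 11, 13], 81), ([0, 13, 11], 97), ([0, 13], 81), ([0], 97)])])
  (L' := [([2, 0, 2, 0, 2, 0, 2, 0, 2, 0], [([1], 3)]),
  ([4, 0, 4, 0], [([1], 5)]),
  ([4, 2, 4, 2, 4, 2], [([3], 17)]),
  ([6, 0, 6, 0], [([1], 7)]),
  ([6, 2, 6, 2], [([3], 19)]),
  ([6, 4, 6, 4, 6, 4, 6, 4, 6, 4, 6, 4, 6, 4, 6, 4], [([5], 29)]),
  ([8, 0, 8, 0], [([1], 9)]),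
  ([8, 2, 8, 2], [([3], 21)]),
  ([8, 4, 8, 4], [([5], 31)]),
  ([8, 6, 8, 6, 8, 6], [([7], 39)]),
  ([10, 0, 10, 0], [([1], 11)]),
  ([10, 2, 10, 2, 10, 2], [([3], 23)]),
  ([10, 4, 10, 4], [([5], 33)]),
  ([10, 6, 10, 6], [([7], 41)]),
  ([10, 8, 10, 8], [([9], 47)]),
  ([12, 0, 12, 0], [([1], 13)]),
  ([12, 2, 12, 2, 12, 2], [([3], 25)]),
  ([12, 4, 12, 4], [([5], 35)]),
  ([12, 6, 12, 6], [([7], 43)]),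
  ([12, 8, 12, 8], [([9], 49)]),
  ([12, 10, 12, 10, 12, 10, 12, 10], [([11], 53)]),
  ([0, 7, 5, 7, 5, 7, 5, 7, 5], [([4, 6, 4, 6, 4, 6, 4], 36), ([4, 6, 4, 6, 4, 6], 26), ([4, 6, 4, 6, 4], 36), ([4, 6, 4, 6], 26), ([4, 6, 4], 36), ([4, 6], 26), ([4], 36), ([], 26), ([], 57)]),
  ([0, 13, 11, 13, 11], [([10, 12, 10], 54), ([10, 12], 50), ([10], 54), ([], 50), ([], 59)])])
  (by decide +kernel)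
end H40.Suz
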